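import Cfsg.Agent.H294.NR.Sp

/-!
# `Good` for the symplectic groups and the orthogonal groups of odd dimension (helper294, S3440)
-/

set_option autoImplicit false

namespace Cfsg.Agent.H294.NR

open Cfsg Cfsg.Agent.H377.NR
open Cfsg.Agent.H390.NonAdj (IsEta)

theorem no_rat_even {k l : ℕ} (hk : Even k) (hl : Odd l) : ¬ ∃ t : ℕ, Odd t ∧ l = k * t := by
  rintro ⟨t, -, h⟩
  rw [← Nat.not_even_iff_odd] at hl
  exact hl (h ▸ hk.mul_right t)

theorem no_rat_odd {k l : ℕ} (hk : Odd k) (hl : Even l) : ¬ ∃ t : ℕ, Odd t ∧ l = k * t := by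
  rintro ⟨t, ht, h⟩
  rw [← Nat.not_odd_iff_even] at hl
  exact hl (h ▸ hk.mul ht)

theorem odd_ne_pow {n : ℕ} (hn : 3 ≤ n) (ho : Odd n) (j : ℕ) : n ≠ 2 ^ j := by
  rintro rfl
  rcases j with _ | j
  · omega
  · rw [pow_succ] at ho
    exact (Nat.not_odd_iff_even.2 ((even_two).mul_left _)) ho

theorem two_odd_ne_pow {n : ℕ} (hn : 3 ≤ n) (ho : Odd n) (j : ℕ) : 2 * n ≠ 2 ^ j := by
  intro h
  rcases j with _ | j
  · omega
  · rw [pow_succ, mul_comm] at h
    exact odd_ne_pow hn ho j (Nat.eq_of_mul_eq_mul_right (by norm_num) h)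

theorem exists_eta (k : ℕ) : ∃ η, IsEta k η := by
  rcases Nat.even_or_odd k with h | h
  · obtain ⟨m, hm⟩ := h
    exact ⟨m, Or.inr ⟨⟨m, hm⟩, by omega⟩⟩
  · exact ⟨k, Or.inl ⟨h, rfl⟩⟩

section

variable {F : Type} [Field F] [Fintype F]

theorem ne_char {p r e : ℕ} [hp : Fact p.Prime] [CharP F p] (hr : r.Prime)
    (he : orderOf ((Fintype.card F : ℕ) : ZMod r) = e) (h3 : 3 ≤ e) : r ≠ p := by
  obtain ⟨-, -, hrq, -, -⟩ := H390.prim_cond hr he h3
  intro h
  exact hrq ((dvd_card_iff (F := F) (p := p) hr).2 h)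

theorem not_dvd_sub_one {p r e : ℕ} [hp : Fact p.Prime] [CharP F p]
    (he : orderOf ((Fintype.card F : ℕ) : ZMod r) = e) (h3 : 3 ≤ e) : ¬ r ∣ p - 1 := by
  intro h
  obtain ⟨f, hf⟩ := FiniteField.card F p
  have h1 : ((p : ℕ) : ZMod r) = 1 := by
    have h2 : (((p - 1 : ℕ)) : ZMod r) = 0 := (ZMod.natCast_eq_zero_iff _ _).2 h
    rw [Nat.cast_sub hp.out.one_lt.le, Nat.cast_one, sub_eq_zero] at h2
    exact h2
  rw [hf.2, Nat.cast_pow, h1, one_pow, orderOf_one] at he
  omega

theorem char_two {p : ℕ} [hp : Fact p.Prime] [CharP F p] (h : Even (Fintype.card F)) : p = 2 :=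
  ((dvd_card_iff (F := F) (p := p) Nat.prime_two).1 h.two_dvd).symm

theorem char_odd {p : ℕ} [hp : Fact p.Prime] [CharP F p] (h : Odd (Fintype.card F)) : p ≠ 2 := by
  rintro rfl
  exact Nat.not_even_iff_odd.2 h (even_iff_two_dvd.2 ((dvd_card_iff (F := F) Nat.prime_two).2 rfl))

/-- `n` odd -/
theorem good_odd {n p : ℕ} [hp : Fact p.Prime] [CharP F p] (hn : 3 ≤ n) (hno : Odd n)
    (h2 : ¬ (Fintype.card F = 2 ∧ n = 3)) : Good (PSp n F) := by
  have hq := card_two (F := F)
  obtain ⟨r, hr, her⟩ := Cfsg.Agent.Lib.Zsigmondy.exists_prime_orderOf hq (by omega : 2 ≤ n) (by omega)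
    (by rintro ⟨-, rfl⟩; exact absurd hno (by decide))
  obtain ⟨s, hs, hes⟩ := Cfsg.Agent.Lib.Zsigmondy.exists_prime_orderOf hq (by omega : 2 ≤ 2 * n) (by omega)
    (by rintro ⟨h3, h4⟩; exact h2 ⟨h3, by omega⟩)
  have ηr : IsEta n n := Or.inl ⟨hno, rfl⟩
  have ηs : IsEta (2 * n) n := Or.inr ⟨even_two_mul n, rfl⟩
  have pr := pi_psp (F := F) hr her (by omega) ηr le_rfl
  have ps := pi_psp (F := F) hs hes (by omega) ηs le_rfl
  obtain ⟨hr2, -, -, -, -⟩ := H390.prim_cond hr her (by omega)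
  obtain ⟨hs2, -, -, -, -⟩ := H390.prim_cond hs hes (by omega)
  have hrp := ne_char (F := F) (p := p) hr her (by omega)
  have hsp := ne_char (F := F) (p := p) hs hes (by omega)
  have hrs : r ≠ s := by
    rintro rfl
    rw [her] at hes
    omega
  have nrs : NA (PSp n F) r s := na_sp (p := p) hn pr ps hr2 hs2 hrp hsp hrs her hes ηr ηs le_rfl (by omega)
    (H390.rat_two (by omega))
  have nrp := na_char (F := F) (p := p) hn pr hr2 hrp her ηr le_rfl
  have nsp := na_char (F := F) (p := p) hn ps hs2 hsp hes ηs le_rfl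
  have strong : Strong (PSp n F) r ∧ Strong (PSp n F) s := by
    rcases Nat.even_or_odd (Fintype.card F) with he | ho
    · have h3 := char_two (F := F) (p := p) he
      subst h3
      exact ⟨strong_of_two nrp.symm nsp.symm nrs, strong_of_two nsp.symm nrp.symm nrs.symm⟩
    · have hp2 := char_odd (F := F) (p := p) ho
      obtain ⟨m, rfl⟩ := Nat.exists_eq_add_of_le hn
      obtain ⟨t, ht, het⟩ := Cfsg.Agent.Lib.Zsigmondy.exists_prime_orderOf hq (by omega : 2 ≤ 2 * (2 + m)) (by omega)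
        (by rintro ⟨h3, h4⟩; rw [h3] at ho; exact absurd ho (by decide))
      have ηt : IsEta (2 * (2 + m)) (2 + m) := Or.inr ⟨even_two_mul _, rfl⟩
      have pt := pi_psp (F := F) (n := 3 + m) ht het (by omega) ηt (by omega)
      obtain ⟨ht2, -, -, -, -⟩ := H390.prim_cond ht het (by omega)
      have htp := ne_char (F := F) (p := p) ht het (by omega)
      have htr : t ≠ r := by
        rintro rfl
        rw [her] at het
        rw [Nat.odd_iff] at hno
        omega
      have hts : t ≠ s := by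
        rintro rfl
        rw [hes] at het
        omega
      have nrt : NA (PSp (3 + m) F) r t := (na_sp (p := p) hn pt pr ht2 hr2 htp hrp htr het her ηt ηr (by omega)
        (by omega) (no_rat_even (even_two_mul _) hno)).symm
      have nst : NA (PSp (3 + m) F) s t := (na_sp (p := p) hn pt ps ht2 hs2 htp hsp hts het hes ηt ηs (by omega)
        (by omega) (H390.rat_lt (by omega) (by omega))).symm
      refine ⟨?_, ?_⟩
      · exact strong_of_three hr2 hs2 ht2 hp2 htp nrs nrt nrp nst nsp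
          (Or.inl (not_fermat hs hes (by omega) (two_odd_ne_pow hn hno))) (not_dvd_sub_one (F := F) her (by omega))
      · exact strong_of_three hs2 hr2 ht2 hp2 htp nrs.symm nst nsp nrt nrp
          (Or.inl (not_fermat hr her (by omega) (odd_ne_pow hn hno))) (not_dvd_sub_one (F := F) hes (by omega))
  refine good_of_pair strong.1 strong.2 fun v hv => ?_
  by_cases hvp : v = p
  · rw [hvp]
    exact Or.inl nrp.symm
  by_cases hv2 : v = 2
  · subst hv2
    have ho : Odd (Fintype.card F) := by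
      rw [← Nat.not_even_iff_odd]
      intro he
      exact hvp (char_two (F := F) (p := p) he).symm
    obtain ⟨c, hc⟩ := ho
    have h4 : Fintype.card F % 4 = 1 ∨ Fintype.card F % 4 = 3 := by omega
    rcases h4 with h4 | h4
    · right
      exact na_two_plus hn ⟨c, hc⟩ (by rw [Nat.pow_mod, h4, one_pow]; norm_num) hs hes
    · left
      exact na_two_minus hn hno h4 hr her
  -- an odd prime different from `p`
  obtain ⟨ηv, hηv⟩ := exists_eta (orderOf ((Fintype.card F : ℕ) : ZMod v))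
  obtain ⟨k1, k2, k3⟩ := eta_le (F := F) (p := p) hv hvp rfl hηv
  rcases Nat.even_or_odd (orderOf ((Fintype.card F : ℕ) : ZMod v)) with he | ho
  · left
    have hvr : v ≠ r := by
      rintro rfl
      rw [her] at he
      exact Nat.not_even_iff_odd.2 hno he
    exact na_sp (p := p) hn hv pr hv2 hr2 hvp hrp hvr rfl her hηv ηr k3 (by omega) (no_rat_even he hno)
  · right
    have hvs : v ≠ s := by
      rintro rfl
      rw [hes] at ho
      exact Nat.not_odd_iff_even.2 (even_two_mul _) ho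
    exact na_sp (p := p) hn hv ps hv2 hs2 hvp hsp hvs rfl hes hηv ηs k3 (by omega) (no_rat_odd ho (even_two_mul _))

/-- `n` even -/
theorem good_even {n p : ℕ} [hp : Fact p.Prime] [CharP F p] (hn : 4 ≤ n) (hne : Even n)
    (h2 : ¬ (Fintype.card F = 2 ∧ n = 4)) : Good (PSp n F) := by
  have hq := card_two (F := F)
  have hn3 : 3 ≤ n := by omega
  obtain ⟨m, rfl⟩ := Nat.exists_eq_add_of_le hn
  have hm : Even m := by
    rw [Nat.even_iff] at hne ⊢
    omega
  obtain ⟨m0, hm0⟩ := hm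
  have ho1 : Odd (3 + m) := ⟨1 + m0, by omega⟩
  obtain ⟨r, hr, her⟩ := Cfsg.Agent.Lib.Zsigmondy.exists_prime_orderOf hq (by omega : 2 ≤ 2 * (4 + m)) (by omega)
    (by omega)
  obtain ⟨a, ha, hea⟩ := Cfsg.Agent.Lib.Zsigmondy.exists_prime_orderOf hq (by omega : 2 ≤ 3 + m) (by omega)
    (by omega)
  obtain ⟨b, hb, heb⟩ := Cfsg.Agent.Lib.Zsigmondy.exists_prime_orderOf hq (by omega : 2 ≤ 2 * (3 + m)) (by omega)
    (by rintro ⟨h3, h4⟩; exact h2 ⟨h3, by omega⟩)
  obtain ⟨c, hc, hec⟩ := Cfsg.Agent.Lib.Zsigmondy.exists_prime_orderOf hq (by omega : 2 ≤ 2 * (2 + m)) (by omega)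
    (by omega)
  have ηr : IsEta (2 * (4 + m)) (4 + m) := Or.inr ⟨even_two_mul _, rfl⟩
  have ηa : IsEta (3 + m) (3 + m) := Or.inl ⟨ho1, rfl⟩
  have ηb : IsEta (2 * (3 + m)) (3 + m) := Or.inr ⟨even_two_mul _, rfl⟩
  have ηc : IsEta (2 * (2 + m)) (2 + m) := Or.inr ⟨even_two_mul _, rfl⟩
  have pr := pi_psp (F := F) hr her (by omega) ηr le_rfl
  have pa := pi_psp (F := F) (n := 4 + m) ha hea (by omega) ηa (by omega)
  have pb := pi_psp (F := F) (n := 4 + m) hb heb (by omega) ηb (by omega)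
  have pc := pi_psp (F := F) (n := 4 + m) hc hec (by omega) ηc (by omega)
  obtain ⟨hr2, -, -, -, -⟩ := H390.prim_cond hr her (by omega)
  obtain ⟨ha2, -, -, -, -⟩ := H390.prim_cond ha hea (by omega)
  obtain ⟨hb2, -, -, -, -⟩ := H390.prim_cond hb heb (by omega)
  obtain ⟨hc2, -, -, -, -⟩ := H390.prim_cond hc hec (by omega)
  have hrp := ne_char (F := F) (p := p) hr her (by omega)
  have hap := ne_char (F := F) (p := p) ha hea (by omega)
  have hbp := ne_char (F := F) (p := p) hb heb (by omega)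
  have hcp := ne_char (F := F) (p := p) hc hec (by omega)
  have har : a ≠ r := by rintro rfl; rw [her] at hea; omega
  have hbr : b ≠ r := by rintro rfl; rw [her] at heb; omega
  have hcr : c ≠ r := by rintro rfl; rw [her] at hec; omega
  have hab : a ≠ b := by rintro rfl; rw [hea] at heb; omega
  have hca : c ≠ a := by rintro rfl; rw [hea] at hec; omega
  have hcb : c ≠ b := by rintro rfl; rw [heb] at hec; omega
  have nar : NA (PSp (4 + m) F) a r := na_sp (p := p) hn3 pa pr ha2 hr2 hap hrp har hea her ηa ηr (by omega)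
    (by omega) (no_rat_odd ho1 (even_two_mul _))
  have nbr : NA (PSp (4 + m) F) b r := na_sp (p := p) hn3 pb pr hb2 hr2 hbp hrp hbr heb her ηb ηr (by omega)
    (by omega) (H390.rat_lt (by omega) (by omega))
  have ncr : NA (PSp (4 + m) F) c r := na_sp (p := p) hn3 pc pr hc2 hr2 hcp hrp hcr hec her ηc ηr (by omega)
    (by omega) (H390.rat_lt (by omega) (by omega))
  have nab : NA (PSp (4 + m) F) a b := na_sp (p := p) hn3 pa pb ha2 hb2 hap hbp hab hea heb ηa ηb le_rfl
    (by omega) (H390.rat_two (by omega))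
  have nca : NA (PSp (4 + m) F) c a := na_sp (p := p) hn3 pc pa hc2 ha2 hcp hap hca hec hea ηc ηa (by omega)
    (by omega) (no_rat_even (even_two_mul _) ho1)
  have nrp := na_char (F := F) (p := p) hn3 pr hr2 hrp her ηr le_rfl
  have n2r : NA (PSp (4 + m) F) 2 r := by
    rcases Nat.even_or_odd (Fintype.card F) with he | ho
    · have h3 := char_two (F := F) (p := p) he
      rw [← h3]
      exact nrp.symm
    · refine na_two_plus hn3 ho ?_ hr her
      obtain ⟨k, hk⟩ := hne
      have h4 : Fintype.card F % 4 = 1 ∨ Fintype.card F % 4 = 3 := by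
        obtain ⟨j, hj⟩ := ho
        omega
      rw [hk, ← two_mul, pow_mul, Nat.pow_mod]
      have h5 : Fintype.card F ^ 2 % 4 = 1 := by
        rcases h4 with h4 | h4 <;> rw [Nat.pow_mod, h4]
      rw [h5, one_pow]
      norm_num
  have strong : Strong (PSp (4 + m) F) r := strong_of_four ha2 hb2 hc2 n2r nar.symm nbr.symm ncr.symm nab nca.symm
    hcb.symm (not_fermat ha hea (by omega) (odd_ne_pow (by omega) ho1))
  intro v hv
  by_cases hvp : v = p
  · rw [hvp]
    exact Or.inr ⟨r, nrp.symm, strong⟩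
  by_cases hv2 : v = 2
  · rw [hv2]
    exact Or.inr ⟨r, n2r, strong⟩
  obtain ⟨ηv, hηv⟩ := exists_eta (orderOf ((Fintype.card F : ℕ) : ZMod v))
  obtain ⟨k1, k2, k3⟩ := eta_le (F := F) (p := p) hv hvp rfl hηv
  by_cases hrat : ∃ t : ℕ, Odd t ∧ 2 * (4 + m) = orderOf ((Fintype.card F : ℕ) : ZMod v) * t
  · left
    obtain ⟨t, ht, hkt⟩ := hrat
    set k := orderOf ((Fintype.card F : ℕ) : ZMod v) with hk
    have hkodd : ¬ Odd k := by
      intro h
      exact no_rat_odd h (even_two_mul (4 + m)) ⟨t, ht, hkt⟩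
    have hηk : 2 * ηv = k := by
      rcases hηv with ⟨h, -⟩ | ⟨-, h⟩
      · exact absurd h hkodd
      · exact h
    have h5 : 4 + m = ηv * t := by
      rw [← hηk, mul_assoc] at hkt
      exact Nat.eq_of_mul_eq_mul_left (by norm_num) hkt
    have hηe : Even ηv := by
      rw [← Nat.not_odd_iff_even]
      intro h
      exact Nat.not_even_iff_odd.2 (h.mul ht) (h5 ▸ hne)
    have h6 : 2 ≤ ηv := by
      obtain ⟨j, hj⟩ := hηe
      omega
    have hke : Even k := ⟨ηv, by omega⟩
    have hva : v ≠ a := by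
      rintro rfl
      rw [hea] at hk
      rw [Nat.even_iff] at hke
      rw [Nat.odd_iff] at ho1
      omega
    -- `k` does not divide `2 (n - 1)`
    have hkb : ¬ k ∣ 2 * (3 + m) := by
      intro h
      have h7 : ηv ∣ 3 + m := by
        rw [← hηk] at h
        exact Nat.dvd_of_mul_dvd_mul_left (by norm_num) h
      have h8 : ηv ∣ 4 + m := ⟨t, h5⟩
      have h9 := (Nat.dvd_sub h8 h7)
      have h10 : 4 + m - (3 + m) = 1 := by omega
      rw [h10] at h9
      have := Nat.le_of_dvd (by norm_num) h9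
      omega
    have hvb : v ≠ b := by
      rintro rfl
      rw [heb] at hk
      exact hkb (dvd_of_eq hk)
    refine ⟨a, ?_, b, ?_, nab⟩
    · rcases le_or_gt ηv (3 + m) with hle | hgt
      · exact na_sp (p := p) hn3 hv pa hv2 ha2 hvp hap hva rfl hea hηv ηa hle (by omega) (no_rat_even hke ho1)
      · exact (na_sp (p := p) hn3 pa hv ha2 hv2 hap hvp hva.symm hea rfl ηa hηv hgt.le (by omega)
          (no_rat_odd ho1 hke)).symm
    · rcases le_or_gt ηv (3 + m) with hle | hgt
      · exact na_sp (p := p) hn3 hv pb hv2 hb2 hvp hbp hvb rfl heb hηv ηb hle (by omega)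
          (fun ⟨t', _, h'⟩ => hkb ⟨t', h'⟩)
      · have h7 : k = 2 * (4 + m) := by omega
        exact (na_sp (p := p) hn3 pb hv hb2 hv2 hbp hvp hvb.symm heb hk.symm ηb hηv hgt.le (by omega)
          (by rw [h7]; exact H390.rat_lt (by omega) (by omega))).symm
  · right
    have hvr : v ≠ r := by
      rintro rfl
      exact hrat ⟨1, odd_one, by rw [her, mul_one]⟩
    exact ⟨r, na_sp (p := p) hn3 hv pr hv2 hr2 hvp hrp hvr rfl her hηv ηr k3 (by omega) hrat, strong⟩

/-- **Row `PSp_2n(q)`.** -/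
theorem good_psp {L : Type*} [Group L] [Finite L] {n : ℕ} (hn : 3 ≤ n)
    (h2 : ¬ (Fintype.card F = 2 ∧ (n = 3 ∨ n = 4))) (h : Nonempty (L ≃* Cfsg.PSp n F)) : Good L := by
  obtain ⟨e⟩ := h
  obtain ⟨p, hp⟩ := CharP.exists F
  have hpp : Fact p.Prime := ⟨(FiniteField.card F p).choose_spec.1⟩
  refine Good.of_equiv e ?_
  rcases Nat.even_or_odd n with he | ho
  · have h4 : 4 ≤ n := by
      obtain ⟨j, hj⟩ := he
      omega
    exact good_even (p := p) h4 he fun h3 => h2 ⟨h3.1, Or.inr h3.2⟩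
  · exact good_odd (p := p) hn ho fun h3 => h2 ⟨h3.1, Or.inl h3.2⟩

end

/-! ### Transfer by the prime graph -/

theorem good_of_graph {G L : Type*} [Group G] [Group L] (hpi : ∀ r, Pi G r ↔ Pi L r)
    (hadj : ∀ r s : ℕ, r.Prime → s.Prime → r ≠ s → (Adj G r s ↔ Adj L r s)) (h : Good L) : Good G := by
  have hna : ∀ r s, NA G r s ↔ NA L r s := by
    intro r s
    unfold NA
    constructor
    · rintro ⟨h1, h2, h3, h4⟩
      exact ⟨(hpi r).1 h1, (hpi s).1 h2, h3, fun h5 => h4 ((hadj r s h1.1 h2.1 h3).2 h5)⟩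
    · rintro ⟨h1, h2, h3, h4⟩
      exact ⟨(hpi r).2 h1, (hpi s).2 h2, h3, fun h5 => h4 ((hadj r s h1.1 h2.1 h3).1 h5)⟩
  unfold Good Strong C3 at h ⊢
  simp only [hna, hpi]
  exact h

section

variable {F : Type} [Field F] [Fintype F]

/-- **Row `PΩ_{2n+1}(q)`.** -/
theorem good_oodd {L : Type*} [Group L] [Finite L] {n : ℕ} (hn : 3 ≤ n) (hodd : Odd (Fintype.card F))
    (h : Nonempty (L ≃* Cfsg.POmega F (Cfsg.quadFormOdd n F))) : Good L := by
  obtain ⟨e⟩ := h
  have hfin : Finite (Cfsg.POmega F (Cfsg.quadFormOdd n F)) := Finite.of_equiv L e.toEquiv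
  refine Good.of_equiv e (good_of_graph (L := PSp n F) ?_ ?_ (good_psp hn ?_ ⟨MulEquiv.refl _⟩))
  · intro r
    have h1 : Nat.card (Cfsg.POmega F (Cfsg.quadFormOdd n F)) = Nat.card (PSp n F) := by
      have h3 := card_psp (F := F) n (by omega)
      have h4 := Cfsg.Agent.S0292.result (F := F) rfl hodd n hn
      have hg : Nat.gcd 2 (Fintype.card F - 1) = 2 := by
        rw [Nat.gcd_eq_left]
        obtain ⟨k, hk⟩ := hodd
        exact ⟨k, by omega⟩
      rw [hg, ← h4] at h3
      omega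
    unfold Pi
    rw [h1]
  · intro r s hr hs hrs
    exact Cfsg.Agent.S2474.result hodd n hn r s hr hs hrs
  · rintro ⟨h1, -⟩
    rw [h1] at hodd
    exact absurd hodd (by decide)

end

end Cfsg.Agent.H294.NR
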