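import Cfsg.Agent.H377.NR.Defs
import Cfsg.Agent.H390.Cocl
import Cfsg.Agent.H150.FarSp
import Cfsg.Agent.S2469
import Cfsg.Agent.S2472
import Cfsg.Agent.S2474

/-!
# `Good` for the symplectic groups and the orthogonal groups of odd dimension (helper294, S3440)
-/

set_option autoImplicit false

namespace Cfsg.Agent.H294.NR

open Cfsg Cfsg.Agent.H377.NR
open Cfsg.Agent.H390.NonAdj (IsEta)

section

variable {F : Type} [Field F] [Fintype F]

theorem card_two : 2 ≤ Fintype.card F := Fintype.one_lt_card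

/-- the characteristic divides the order of the field -/
theorem dvd_card_iff {p : ℕ} [hp : Fact p.Prime] [CharP F p] {v : ℕ} (hv : v.Prime) : v ∣ Fintype.card F ↔ v = p := by
  obtain ⟨f, hf⟩ := FiniteField.card F p
  rw [hf.2]
  constructor
  · intro h
    exact (Nat.prime_dvd_prime_iff_eq hv hp.out).1 (hv.dvd_of_dvd_pow h)
  · rintro rfl
    exact dvd_pow_self _ f.pos.ne'

/-- the primes with `η ≤ n` divide the order -/
theorem pi_psp {n r e η : ℕ} (hr : r.Prime) (he : orderOf ((Fintype.card F : ℕ) : ZMod r) = e) (h3 : 3 ≤ e)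
    (hη : IsEta e η) (hle : η ≤ n) : Pi (PSp n F) r := by
  obtain ⟨hr2, hr3, hrq, -, -⟩ := H390.prim_cond hr he h3
  have h1 : r ∣ Nat.card (Matrix.symplecticGroup (Fin n) F) := by
    rw [Cfsg.Agent.S0245.result (F := F) rfl n]
    apply Dvd.dvd.mul_left
    exact H390.dvd_of_eta (by have := card_two (F := F); omega) he hη (hη.ne (by omega)) hle
  have := Fact.mk hr
  obtain ⟨y, hy⟩ := exists_prime_orderOf_dvd_card' r h1
  obtain ⟨x, hx⟩ := H390.Lift.desc_odd _ (fun z hz => Cfsg.Agent.H376.SpEmb.center_pow z hz) (hr.odd_of_ne_two hr2)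
    ⟨y, hy⟩
  exact ⟨hr, by rw [← hx]; exact orderOf_dvd_natCard x⟩

/-- the primes dividing the order have `η ≤ n` -/
theorem eta_le {n v p k η : ℕ} [Fact p.Prime] [CharP F p] (hv : Pi (PSp n F) v) (hvp : v ≠ p)
    (hk : orderOf ((Fintype.card F : ℕ) : ZMod v) = k) (hη : IsEta k η) : 1 ≤ k ∧ 1 ≤ η ∧ η ≤ n := by
  have hq := card_two (F := F)
  have h1 : v ∣ Nat.card (Matrix.symplecticGroup (Fin n) F) := hv.2.trans (Subgroup.card_quotient_dvd_card _)
  rw [Cfsg.Agent.S0245.result (F := F) rfl n, hv.1.dvd_mul] at h1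
  rcases h1 with h1 | h1
  · exact absurd ((dvd_card_iff (F := F) (p := p) hv.1).1 (hv.1.dvd_of_dvd_pow h1)) hvp
  · obtain ⟨i, hi, h2⟩ := (hv.1.prime.dvd_finsetProd_iff _).1 h1
    rw [Finset.mem_range] at hi
    have h3 : k ∣ 2 * (i + 1) := by
      rwa [Cfsg.Agent.Lib.Zsigmondy.dvd_pow_sub_one_iff (by omega), hk] at h2
    have h4 : 0 < k := Nat.pos_of_dvd_of_pos h3 (by omega)
    rcases hη with ⟨ho, h5⟩ | ⟨he, h5⟩
    · have h6 : k ∣ i + 1 := (Nat.Coprime.dvd_of_dvd_mul_left (Nat.coprime_two_right.2 ho) h3)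
      have := Nat.le_of_dvd (by omega) h6
      omega
    · rw [← h5] at h3
      have h6 : η ∣ i + 1 := Nat.dvd_of_mul_dvd_mul_left (by norm_num) h3
      have := Nat.le_of_dvd (by omega) h6
      omega

/-- nonadjacency of two odd primes -/
theorem na_sp {n p r s k l ηk ηl : ℕ} [Fact p.Prime] [CharP F p] (hn : 3 ≤ n) (hr : Pi (PSp n F) r)
    (hs : Pi (PSp n F) s) (hr2 : r ≠ 2) (hs2 : s ≠ 2) (hrp : r ≠ p) (hsp : s ≠ p) (hrs : r ≠ s)
    (hk : orderOf ((Fintype.card F : ℕ) : ZMod r) = k) (hl : orderOf ((Fintype.card F : ℕ) : ZMod s) = l)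
    (h1 : IsEta k ηk) (h2 : IsEta l ηl) (hle : ηk ≤ ηl) (hsum : n < ηk + ηl)
    (ho : ¬ ∃ t : ℕ, Odd t ∧ l = k * t) : NA (PSp n F) r s :=
  ⟨hr, hs, hrs, (Cfsg.Agent.S2469.result (F := F) p n (by omega) (fun h => by omega) r s hr.1 hs.1 hr2 hs2 hrp hsp hrs
    hr.2 hs.2 k l ηk ηl hk.symm hl.symm h1 h2 hle).2 ⟨hsum, ho⟩⟩

/-- the order of `PSp` -/
theorem card_psp (n : ℕ) (hn : 1 ≤ n) : Nat.card (PSp n F) * Nat.gcd 2 (Fintype.card F - 1) =
    Fintype.card F ^ (n ^ 2) * ∏ i ∈ Finset.range n, (Fintype.card F ^ (2 * (i + 1)) - 1) := by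
  rw [← Cfsg.Agent.S0245.result (F := F) rfl n, ← Cfsg.Agent.S0246.result (F := F) rfl n hn]
  exact (Subgroup.card_eq_card_quotient_mul_card_subgroup _).symm

theorem pi_char {n p : ℕ} [hp : Fact p.Prime] [CharP F p] (hn : 1 ≤ n) : Pi (PSp n F) p := by
  refine ⟨hp.out, ?_⟩
  have h1 := card_psp (F := F) n hn
  have hpq : p ∣ Fintype.card F := (dvd_card_iff (F := F) hp.out).2 rfl
  have h2 : p ∣ Nat.card (PSp n F) * Nat.gcd 2 (Fintype.card F - 1) := by
    rw [h1]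
    exact ((dvd_pow_self p (by positivity)).trans (pow_dvd_pow_of_dvd hpq (n ^ 2))).mul_right _
  refine (hp.out.dvd_mul.1 h2).resolve_right fun h3 => ?_
  have h4 : p ∣ Fintype.card F - 1 := h3.trans (Nat.gcd_dvd_right _ _)
  have h5 : p ∣ 1 := by
    have h6 := Nat.dvd_sub hpq h4
    rwa [Nat.sub_sub_self (by have := card_two (F := F); omega)] at h6
  exact hp.out.one_lt.ne' (Nat.dvd_one.1 h5)

theorem pi_two {n : ℕ} (hn : 2 ≤ n) : Pi (PSp n F) 2 := by
  refine ⟨Nat.prime_two, ?_⟩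
  have hq := card_two (F := F)
  rcases Nat.even_or_odd (Fintype.card F) with he | ho
  · obtain ⟨p, hp⟩ := CharP.exists F
    have hpp : Fact p.Prime := ⟨(FiniteField.card F p).choose_spec.1⟩
    have h2 := (dvd_card_iff (F := F) (p := p) Nat.prime_two).1 he.two_dvd
    subst h2
    exact (pi_char (F := F) (p := 2) (by omega)).2
  · have h1 := card_psp (F := F) n (by omega)
    have hg : Nat.gcd 2 (Fintype.card F - 1) = 2 := by
      rw [Nat.gcd_eq_left]
      obtain ⟨k, hk⟩ := ho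
      exact ⟨k, by omega⟩
    have key : ∀ j : ℕ, 2 ∣ Fintype.card F ^ j - 1 := by
      intro j
      obtain ⟨k, hk⟩ := ho.pow (n := j)
      exact ⟨k, by omega⟩
    have h4 : 2 * 2 ∣ ∏ i ∈ Finset.range n, (Fintype.card F ^ (2 * (i + 1)) - 1) := by
      obtain ⟨m, rfl⟩ := Nat.exists_eq_add_of_le hn
      rw [show 2 + m = m + 1 + 1 by omega, Finset.prod_range_succ', Finset.prod_range_succ']
      rw [mul_assoc]
      exact (mul_dvd_mul (key _) (key _)).mul_left _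
    rw [hg] at h1
    have h5 : 2 * 2 ∣ Nat.card (PSp n F) * 2 := by
      rw [h1]
      exact h4.mul_left _
    exact Nat.dvd_of_mul_dvd_mul_right (by norm_num) h5

/-- nonadjacency of an odd prime and the characteristic -/
theorem na_char {n p r k ηk : ℕ} [hp : Fact p.Prime] [CharP F p] (hn : 3 ≤ n) (hr : Pi (PSp n F) r)
    (hr2 : r ≠ 2) (hrp : r ≠ p) (hk : orderOf ((Fintype.card F : ℕ) : ZMod r) = k) (h1 : IsEta k ηk) (hle : n ≤ ηk) :
    NA (PSp n F) r p :=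
  ⟨hr, pi_char (by omega), hrp, (Cfsg.Agent.S2472.result (F := F) p n (by omega) (fun h => by omega) r hr.1 hr2 hrp
    hr.2 k ηk hk.symm h1).2 (by omega)⟩

/-- nonadjacency of `R_2n` and `2` for `q ^ n = 1 mod 4` -/
theorem na_two_plus {n r : ℕ} (hn : 3 ≤ n) (hodd : Odd (Fintype.card F)) (h4 : Fintype.card F ^ n % 4 = 1)
    (hr : r.Prime) (hk : orderOf ((Fintype.card F : ℕ) : ZMod r) = 2 * n) : NA (PSp n F) 2 r := by
  obtain ⟨hr2, hr3, hrq, -, -⟩ := H390.prim_cond hr hk (by omega)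
  have hrG : Pi (PSp n F) r := pi_psp hr hk (by omega) (Or.inr ⟨even_two_mul n, rfl⟩) le_rfl
  have h2 : (2 : F) ≠ 0 := H390.two_ne_zero_of_odd hodd
  have hq := card_two (F := F)
  refine ⟨pi_two (by omega), hrG, hr2.symm, ?_⟩
  rintro ⟨g, hg⟩
  refine H150.psp_far_plus h2 (by omega) hr hr2 (H150.natCast_ne_zero_of_not_dvd hr ?_) ?_ ?_ ?_ g hg
  · rwa [Nat.card_eq_fintype_card]
  · rwa [Nat.card_eq_fintype_card]
  · rw [Nat.card_eq_fintype_card]
    have h1 := H390.pow_dvd_add_one (q := Fintype.card F) (n := n) (r := r) (a := 1) hr (by omega) (by omega) hk (by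
      rw [pow_one, Cfsg.Agent.Lib.Zsigmondy.dvd_pow_sub_one_iff (by omega), hk])
    rwa [pow_one] at h1
  · rwa [Nat.card_eq_fintype_card]

/-- nonadjacency of `R_n` and `2` for `n` odd, `q = 3 mod 4` -/
theorem na_two_minus {n r : ℕ} (hn : 3 ≤ n) (hno : Odd n) (h4 : Fintype.card F % 4 = 3)
    (hr : r.Prime) (hk : orderOf ((Fintype.card F : ℕ) : ZMod r) = n) : NA (PSp n F) 2 r := by
  obtain ⟨hr2, hr3, hrq, -, -⟩ := H390.prim_cond hr hk (by omega)
  have hrG : Pi (PSp n F) r := pi_psp hr hk (by omega) (Or.inl ⟨hno, rfl⟩) le_rfl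
  have h2 : (2 : F) ≠ 0 := H390.two_ne_zero_of_odd (by rw [Nat.odd_iff]; omega)
  refine ⟨pi_two (by omega), hrG, hr2.symm, ?_⟩
  rintro ⟨g, hg⟩
  refine H150.psp_far_minus h2 (by omega) hr hr2 (H150.natCast_ne_zero_of_not_dvd hr ?_) ?_ hno ?_ g hg
  · rwa [Nat.card_eq_fintype_card]
  · rwa [Nat.card_eq_fintype_card]
  · rwa [Nat.card_eq_fintype_card]

end

end Cfsg.Agent.H294.NR
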